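import Mathlib

/-!
Dimension of the commutant of a semisimple endomorphism with integral characteristic polynomial.
-/

set_option autoImplicit false

open Polynomial

namespace Groth.Agent.CommDim

/-- Rank of a square matrix is invariant under a map of fields. -/
theorem rank_map_field {K L m : Type*} [Field K] [Field L] [Fintype m] [DecidableEq m]
    (φ : K →+* L) (M : Matrix m m K) : (M.map φ).rank = M.rank := by
  classical
  obtain ⟨L₁, L₂, D, hM⟩ := Matrix.Pivot.exists_list_transvec_mul_diagonal_mul_list_transvec M
  set P := (L₁.map Matrix.TransvectionStruct.toMatrix).prod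
  set Q := (L₂.map Matrix.TransvectionStruct.toMatrix).prod
  have hP : P.det = 1 := Matrix.TransvectionStruct.det_toMatrix_prod L₁
  have hQ : Q.det = 1 := Matrix.TransvectionStruct.det_toMatrix_prod L₂
  have key : M.map φ = φ.mapMatrix P * Matrix.diagonal (fun i => φ (D i)) * φ.mapMatrix Q := by
    rw [hM]
    change φ.mapMatrix (P * Matrix.diagonal D * Q) = _
    rw [map_mul, map_mul]
    congr 2
    exact Matrix.diagonal_map (map_zero φ)
  have hP' : IsUnit (φ.mapMatrix P).det := by rw [← RingHom.map_det, hP, map_one]; exact isUnit_one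
  have hQ' : IsUnit (φ.mapMatrix Q).det := by rw [← RingHom.map_det, hQ, map_one]; exact isUnit_one
  rw [key, Matrix.rank_mul_eq_left_of_isUnit_det _ _ hQ',
    Matrix.rank_mul_eq_right_of_isUnit_det _ _ hP', hM,
    Matrix.rank_mul_eq_left_of_isUnit_det _ _ (by rw [hQ]; exact isUnit_one),
    Matrix.rank_mul_eq_right_of_isUnit_det _ _ (by rw [hP]; exact isUnit_one),
    Matrix.rank_diagonal, Matrix.rank_diagonal]
  exact Fintype.card_congr (Equiv.subtypeEquivRight fun i => (map_ne_zero φ))

section ad

variable {F : Type*} [Field F] {n : Type*} [Fintype n] [DecidableEq n]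

/-- The matrix of `X ↦ X * M - M * X` in the standard basis. -/
noncomputable def adMat (M : Matrix n n F) : Matrix (n × n) (n × n) F :=
  LinearMap.toMatrix (Matrix.stdBasis F n n) (Matrix.stdBasis F n n)
    (LinearMap.mulRight F M - LinearMap.mulLeft F M)

theorem adMat_apply (M : Matrix n n F) (p q : n × n) :
    adMat M p q = (Matrix.single q.1 q.2 (1 : F) * M - M * Matrix.single q.1 q.2 (1 : F)) p.1 p.2 := by
  obtain ⟨i, j⟩ := p
  obtain ⟨k, l⟩ := q
  rw [adMat, LinearMap.toMatrix_apply, Matrix.stdBasis_eq_single]
  rfl

theorem adMat_map {L : Type*} [Field L] (φ : F →+* L) (M : Matrix n n F) :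
    adMat (M.map φ) = (adMat M).map φ := by
  ext p q
  rw [Matrix.map_apply, adMat_apply, adMat_apply]
  have hs : Matrix.single q.1 q.2 (1 : L) = (Matrix.single q.1 q.2 (1 : F)).map φ := by
    ext a b
    simp [Matrix.single_apply, apply_ite φ]
  rw [hs, ← Matrix.map_mul, ← Matrix.map_mul]
  simp only [Matrix.sub_apply, Matrix.map_apply, map_sub]

theorem adMat_diagonal (d : n → F) :
    adMat (Matrix.diagonal d) = Matrix.diagonal (fun p : n × n => d p.2 - d p.1) := by
  ext p q
  rw [adMat_apply, Matrix.sub_apply, Matrix.mul_diagonal, Matrix.diagonal_mul, Matrix.single_apply,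
    Matrix.diagonal_apply]
  by_cases h : p = q
  · subst h
    simp
  · have : ¬ (q.1 = p.1 ∧ q.2 = p.2) := fun hh => h (Prod.ext hh.1.symm hh.2.symm)
    simp [h, this]

variable {V : Type*} [AddCommGroup V] [Module F V]

/-- The commutant operator `g ↦ g ∘ f - f ∘ g`. -/
noncomputable abbrev adEnd (f : Module.End F V) : Module.End F V →ₗ[F] Module.End F V :=
  LinearMap.lcomp F _ f - LinearMap.llcomp F _ _ _ f

theorem finrank_ker_adEnd (b : Module.Basis n F V) (f : Module.End F V) :
    Module.finrank F (LinearMap.ker (adEnd f)) + (adMat (LinearMap.toMatrix b b f)).rank =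
      Fintype.card (n × n) := by
  set M := LinearMap.toMatrix b b f with hM
  set e : Module.End F V ≃ₗ[F] Matrix n n F := LinearMap.toMatrix b b
  set T : Matrix n n F →ₗ[F] Matrix n n F := LinearMap.mulRight F M - LinearMap.mulLeft F M
  have hT : ∀ g, e (adEnd f g) = T (e g) := by
    intro g
    change e (g ∘ₗ f - f ∘ₗ g) = e g * M - M * e g
    rw [map_sub]
    simp only [e, hM, LinearMap.toMatrix_comp b b b]
  have hk : (LinearMap.ker (adEnd f)).map (e : Module.End F V →ₗ[F] Matrix n n F) = LinearMap.ker T := by
    ext X
    rw [Submodule.mem_map_equiv, LinearMap.mem_ker, LinearMap.mem_ker, ← e.map_eq_zero_iff, hT,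
      e.apply_symm_apply]
  have h1 : Module.finrank F (LinearMap.ker (adEnd f)) = Module.finrank F (LinearMap.ker T) := by
    rw [← hk]
    exact (LinearEquiv.finrank_map_eq e _).symm
  have h2 := T.finrank_range_add_finrank_ker
  have h3 : (adMat M).rank = Module.finrank F (LinearMap.range T) := by
    rw [adMat, Matrix.rank_eq_finrank_range_toLin _ (Matrix.stdBasis F n n) (Matrix.stdBasis F n n),
      Matrix.toLin_toMatrix]
  have h4 : Module.finrank F (Matrix n n F) = Fintype.card (n × n) :=
    Module.finrank_eq_card_basis (Matrix.stdBasis F n n)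
  omega

end ad

/-- A semisimple endomorphism over an algebraically closed field has an eigenbasis. -/
theorem exists_eigenbasis {K V : Type*} [Field K] [IsAlgClosed K] [AddCommGroup V] [Module K V]
    [FiniteDimensional K V] (f : Module.End K V) (hf : f.IsSemisimple) :
    ∃ (b : Module.Basis (Fin (Module.finrank K V)) K V) (d : Fin (Module.finrank K V) → K),
      LinearMap.toMatrix b b f = Matrix.diagonal d := by
  classical
  have hint : DirectSum.IsInternal (fun μ : K => f.eigenspace μ) :=
    DirectSum.isInternal_submodule_of_iSupIndep_of_iSup_eq_top f.eigenspaces_iSupIndep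
      hf.iSup_eigenspace_eq_top
  let v := fun μ : K => Module.finBasis K (f.eigenspace μ)
  let b₀ := hint.collectedBasis v
  haveI := FiniteDimensional.fintypeBasisIndex b₀
  let σ := Fintype.equivFinOfCardEq (Module.finrank_eq_card_basis b₀).symm
  refine ⟨b₀.reindex σ, fun i => (σ.symm i).1, ?_⟩
  ext i j
  have hj : f (b₀ (σ.symm j)) = (σ.symm j).1 • b₀ (σ.symm j) :=
    Module.End.mem_eigenspace_iff.mp (hint.collectedBasis_mem v (σ.symm j))
  rw [LinearMap.toMatrix_apply, Module.Basis.reindex_apply, hj, map_smul, ← Module.Basis.reindex_apply,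
    Module.Basis.repr_self, Matrix.diagonal_apply, Finsupp.smul_apply, Finsupp.single_apply]
  by_cases h : i = j
  · subst h; simp
  · simp [h, Ne.symm h]

open Classical in
/-- Number of ordered pairs of equal entries. -/
noncomputable def pairs {K : Type*} (s : Multiset K) : ℕ :=
  ((s ×ˢ s).filter fun p => p.1 = p.2).card

theorem pairs_map {K K' : Type*} (ψ : K → K') (hψ : Function.Injective ψ) (s : Multiset K) :
    pairs (s.map ψ) = pairs s := by
  classical
  unfold pairs
  have h : (s.map ψ) ×ˢ (s.map ψ) = (s ×ˢ s).map (Prod.map ψ ψ) := by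
    induction s using Multiset.induction_on with
    | empty => simp
    | cons a s ih =>
      simp [Multiset.cons_product, Multiset.product_cons, Multiset.map_add, ih, Multiset.map_map,
        Function.comp_def]
  rw [h, Multiset.filter_map, Multiset.card_map]
  congr 1
  exact Multiset.filter_congr fun p _ => hψ.eq_iff

theorem pairs_univ {K ι : Type*} [Fintype ι] (d : ι → K) :
    pairs (Finset.univ.val.map d) =
      Nat.card {p : ι × ι // d p.1 = d p.2} := by
  classical
  rw [Nat.card_eq_fintype_card]
  unfold pairs
  have h : (Finset.univ.val.map d) ×ˢ (Finset.univ.val.map d) =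
      (Finset.univ : Finset (ι × ι)).val.map (Prod.map d d) := by
    rw [← Finset.univ_product_univ, Finset.product_val]
    simp [SProd.sprod, Multiset.product, Multiset.bind_map, Multiset.map_bind, Multiset.map_map]
  rw [h, Multiset.filter_map, Multiset.card_map, Fintype.card_subtype, Finset.card_def,
    Finset.filter_val]
  congr 1

/-- The dimension of the commutant of a semisimple endomorphism with integral characteristic
polynomial is determined by that polynomial. -/
theorem finrank_commutant {F V : Type*} [Field F] [CharZero F] [AddCommGroup V] [Module F V]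
    [FiniteDimensional F V] (f : Module.End F V) (hf : f.IsSemisimple) (P : ℤ[X])
    (hP : f.charpoly = P.map (Int.castRingHom F)) :
    Module.finrank F (LinearMap.ker (adEnd f)) =
      pairs (P.map (Int.castRingHom (AlgebraicClosure ℚ))).roots := by
  classical
  let b := Module.finBasis F V
  set M := LinearMap.toMatrix b b f with hM
  let φ : F →+* AlgebraicClosure F := algebraMap F (AlgebraicClosure F)
  set M' := M.map φ with hM'
  set f' : Module.End (AlgebraicClosure F) (Fin (Module.finrank F V) → AlgebraicClosure F) :=
    Matrix.toLinAlgEquiv' M' with hf'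
  -- semisimplicity over the algebraic closure
  have hss : f'.IsSemisimple := by
    have hsep : (minpoly F f).Separable :=
      PerfectField.separable_iff_squarefree.mpr hf.minpoly_squarefree
    refine Module.End.isSemisimple_of_squarefree_aeval_eq_zero (hsep.map (f := φ)).squarefree ?_
    have h0 : aeval M (minpoly F f) = 0 := by
      have := minpoly.aeval F f
      have h2 := congrArg (LinearMap.toMatrixAlgEquiv b) this
      rw [← AlgEquiv.coe_toAlgHom, ← aeval_algHom_apply, map_zero] at h2
      exact h2
    have h1 : aeval M' ((minpoly F f).map φ) = 0 := by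
      rw [aeval_map_algebraMap]
      have h3 := congrArg (Algebra.ofId F (AlgebraicClosure F)).mapMatrix h0
      rw [← aeval_algHom_apply, map_zero] at h3
      exact h3
    rw [hf', ← AlgEquiv.coe_toAlgHom, aeval_algHom_apply, h1, map_zero]
  obtain ⟨b', d, hd⟩ := exists_eigenbasis f' hss
  -- dimensions
  have e1 := finrank_ker_adEnd b f
  have e2 := finrank_ker_adEnd b' f'
  have e3 := finrank_ker_adEnd (Pi.basisFun (AlgebraicClosure F) (Fin (Module.finrank F V))) f'
  have htm : LinearMap.toMatrix (Pi.basisFun (AlgebraicClosure F) (Fin (Module.finrank F V)))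
      (Pi.basisFun (AlgebraicClosure F) (Fin (Module.finrank F V))) f' = M' := by
    rw [LinearMap.toMatrix_eq_toMatrix']
    exact LinearMap.toMatrixAlgEquiv'_toLinAlgEquiv' M'
  rw [htm, hM', adMat_map, rank_map_field] at e3
  rw [hd, adMat_diagonal, Matrix.rank_diagonal] at e2
  have hN : Module.finrank (AlgebraicClosure F)
      (Fin (Module.finrank F V) → AlgebraicClosure F) = Module.finrank F V := by simp
  have hcard : Fintype.card (Fin (Module.finrank (AlgebraicClosure F)
      (Fin (Module.finrank F V) → AlgebraicClosure F)) × Fin (Module.finrank (AlgebraicClosure F)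
      (Fin (Module.finrank F V) → AlgebraicClosure F))) =
      Fintype.card (Fin (Module.finrank F V) × Fin (Module.finrank F V)) := by simp [hN]
  rw [← hM] at e1
  have hker : Module.finrank F (LinearMap.ker (adEnd f)) =
      Nat.card {p : _ × _ // d p.1 = d p.2} := by
    rw [Nat.card_eq_fintype_card]
    have h := Fintype.card_subtype_compl (fun p : _ × _ => d p.1 = d p.2)
    have hle := Fintype.card_subtype_le (fun p : _ × _ => d p.1 = d p.2)
    have hne : Fintype.card {p : _ × _ // d p.2 - d p.1 ≠ 0} =
        Fintype.card {p : _ × _ // ¬ d p.1 = d p.2} :=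
      Fintype.card_congr (Equiv.subtypeEquivRight fun p => by rw [sub_ne_zero]; exact ne_comm)
    simp only [← Nat.card_eq_fintype_card] at e1 e2 e3 hcard h hle hne ⊢
    omega
  -- roots
  have hcp : f'.charpoly = P.map (Int.castRingHom (AlgebraicClosure F)) := by
    rw [← LinearMap.charpoly_toMatrix f' (Pi.basisFun (AlgebraicClosure F) (Fin (Module.finrank F V))),
      htm, hM', Matrix.charpoly_map, hM, LinearMap.charpoly_toMatrix, hP, Polynomial.map_map]
    exact congrArg (fun h => P.map h) (RingHom.ext_int _ _)
  have hroots : (P.map (Int.castRingHom (AlgebraicClosure F))).roots = Finset.univ.val.map d := by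
    rw [← hcp, ← LinearMap.charpoly_toMatrix f' b', hd, Matrix.charpoly_diagonal,
      Polynomial.roots_prod _ _ (Finset.prod_ne_zero_iff.mpr fun i _ => Polynomial.X_sub_C_ne_zero _)]
    simp [Polynomial.roots_X_sub_C, Multiset.bind_singleton]
  haveI : Algebra.IsAlgebraic ℚ (AlgebraicClosure ℚ) := AlgebraicClosure.isAlgebraic ℚ
  let ψ : AlgebraicClosure ℚ →ₐ[ℚ] AlgebraicClosure F := IsAlgClosed.lift
  have hmap : (P.map (Int.castRingHom (AlgebraicClosure F))).roots =
      (P.map (Int.castRingHom (AlgebraicClosure ℚ))).roots.map ψ := by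
    have h := Polynomial.Splits.roots_map (IsAlgClosed.splits (P.map (Int.castRingHom (AlgebraicClosure ℚ))))
      (ψ : AlgebraicClosure ℚ →+* AlgebraicClosure F)
    rw [Polynomial.map_map] at h
    rw [show (Int.castRingHom (AlgebraicClosure F)) =
      (ψ : AlgebraicClosure ℚ →+* AlgebraicClosure F).comp (Int.castRingHom _) from RingHom.ext_int _ _]
    exact h
  rw [hker, ← pairs_univ, ← hroots, hmap, pairs_map ψ ψ.injective]

end Groth.Agent.CommDim
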